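import Groth.Agent.DiagRig.SubTransporter
import Groth.Agent.DiagRig.InLocus
import Groth.Agent.DiagRig.MonoClosed
import Groth.Agent.DiagRig.Transporter
import Groth.Agent.DiagRig.RigidConj
import Groth.Agent.DiagRig.MultProp
import Groth.Agent.LimLib.Props

/-! Transporters between closed subgroups of multiplicative type, without affineness. -/

universe u

open CategoryTheory MonoidalCategory CartesianMonoidalCategory MonObj GrpObj AlgebraicGeometry Limits

noncomputable section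

namespace Groth.Agent.TorusCentralizer

open DiagRig

variable {S : Scheme.{u}} {H₁ H₂ G : Over S} [GrpObj H₁] [GrpObj H₂] [GrpObj G] (i₁ : H₁ ⟶ G) (i₂ : H₂ ⟶ G)

/-- The transporter of closed subgroups of multiplicative type in a smooth group is a smooth closed subscheme. -/
theorem exists_subTransporter_of_closed (h₁ : SGA3x.IsMultTypeFT H₁) (h₂ : SGA3x.IsMultTypeFT H₂) [IsMonHom i₁] [Mono i₁]
    [IsMonHom i₂] [Mono i₂] (c₁ : IsClosedImmersion i₁.left) (c₂ : IsClosedImmersion i₂.left) [Smooth G.hom] :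
    ∃ (T : Over S) (j : T ⟶ G), IsClosedImmersion j.left ∧ Smooth T.hom ∧
      ∀ (X : Over S) (g : X ⟶ G), (∃ t : X ⟶ T, t ≫ j = g) ↔ SubTransports i₁ i₂ g := by
  have := c₁
  have := c₂
  obtain ⟨T₁, j₁, hj₁, hlfp₁, hT₁⟩ := exists_closed_inLocus (X := G) (H := H₁)
    (fst G H₁ * (snd G H₁ ≫ i₁) * (fst G H₁)⁻¹) i₂ (splitFpqc_of_multTypeFT H₁ h₁)
  obtain ⟨T₂, j₂, hj₂, hlfp₂, hT₂⟩ := exists_closed_inLocus (X := G) (H := H₂)
    ((fst G H₂)⁻¹ * (snd G H₂ ≫ i₂) * fst G H₂) i₁ (splitFpqc_of_multTypeFT H₂ h₂)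
  let T : Over S := Over.mk (pullback.fst j₁.left j₂.left ≫ T₁.hom)
  let j : T ⟶ G := Over.homMk (pullback.fst j₁.left j₂.left ≫ j₁.left) (by
    show (_ ≫ j₁.left) ≫ G.hom = _ ≫ T₁.hom
    rw [Category.assoc, Over.w j₁])
  have hj : IsClosedImmersion j.left := inferInstanceAs (IsClosedImmersion (pullback.fst j₁.left j₂.left ≫ j₁.left))
  have hiff : ∀ (X : Over S) (g : X ⟶ G), (∃ t : X ⟶ T, t ≫ j = g) ↔ SubTransports i₁ i₂ g := by
    intro X g
    have h : (∃ t : X ⟶ T, t ≫ j = g) ↔ (∃ t, t ≫ j₁ = g) ∧ (∃ t, t ≫ j₂ = g) := by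
      constructor
      · rintro ⟨t, rfl⟩
        let a : T ⟶ T₁ := Over.homMk (pullback.fst j₁.left j₂.left)
        let b : T ⟶ T₂ := Over.homMk (pullback.snd j₁.left j₂.left) (by
          show _ ≫ T₂.hom = pullback.fst j₁.left j₂.left ≫ T₁.hom
          rw [← Over.w j₁, ← Over.w j₂, pullback.condition_assoc])
        exact ⟨⟨t ≫ a, by ext1; exact Category.assoc _ _ _⟩,
          ⟨t ≫ b, by ext1; exact (Category.assoc _ _ _).trans (congrArg (t.left ≫ ·) pullback.condition.symm)⟩⟩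
      · rintro ⟨⟨t₁, e₁⟩, ⟨t₂, e₂⟩⟩
        have e : t₁.left ≫ j₁.left = t₂.left ≫ j₂.left := congrArg CommaMorphism.left (e₁.trans e₂.symm)
        refine ⟨Over.homMk (pullback.lift t₁.left t₂.left e) (by
          show _ ≫ pullback.fst _ _ ≫ T₁.hom = X.hom
          rw [pullback.lift_fst_assoc, Over.w t₁]), ?_⟩
        ext1
        show pullback.lift t₁.left t₂.left e ≫ pullback.fst _ _ ≫ j₁.left = g.left
        rw [pullback.lift_fst_assoc]
        exact congrArg CommaMorphism.left e₁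
    rw [h, hT₁, hT₂]
    constructor
    · rintro ⟨h1, h2⟩ X' x
      refine ⟨fun a => (h1 X' x a).imp fun y hy => ?_, fun a => (h2 X' x a).imp fun y hy => ?_⟩
      · rw [MonObj.comp_mul, MonObj.comp_mul, GrpObj.comp_inv, lift_fst, lift_snd_assoc] at hy
        exact hy.symm
      · rw [MonObj.comp_mul, MonObj.comp_mul, GrpObj.comp_inv, lift_fst, lift_snd_assoc] at hy
        exact hy.symm
    · intro hs
      refine ⟨fun X' x a => ((hs X' x).1 a).imp fun y hy => ?_, fun X' x a => ((hs X' x).2 a).imp fun y hy => ?_⟩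
      · rw [MonObj.comp_mul, MonObj.comp_mul, GrpObj.comp_inv, lift_fst, lift_snd_assoc]
        exact hy.symm
      · rw [MonObj.comp_mul, MonObj.comp_mul, GrpObj.comp_inv, lift_fst, lift_snd_assoc]
        exact hy.symm
  refine ⟨T, j, hj, ?_, hiff⟩
  have := hlfp₁ (lfp_left_of_multType i₂ h₂)
  have := hlfp₂ (lfp_left_of_multType i₁ h₁)
  refine (Groth.Agent.S1488.result T.hom).mpr ⟨?_, fun A _ I hI a b w => ?_⟩
  · show LocallyOfFinitePresentation (pullback.fst j₁.left j₂.left ≫ T₁.hom)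
    rw [← Over.w j₁]
    infer_instance
  · let S₀ : Over (Spec (CommRingCat.of A)) := Over.mk (Spec.map (CommRingCat.ofHom (Ideal.Quotient.mk I)))
    let a' : (Over.map b).obj S₀ ⟶ T := Over.homMk a w.symm
    let k₁ : Red.bc b H₁ ⟶ Red.bc b G := (Over.pullback b).map i₁
    let k₂ : Red.bc b H₂ ⟶ Red.bc b G := (Over.pullback b).map i₂
    have : IsMonHom k₁ := isMonHom_bcMap b i₁
    have : IsMonHom k₂ := isMonHom_bcMap b i₂
    have : Mono k₁ := inferInstanceAs (Mono ((Over.pullback b).map i₁))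
    have : Mono k₂ := inferInstanceAs (Mono ((Over.pullback b).map i₂))
    obtain ⟨g, hg₀, φ, hg⟩ := exists_conjBy_lift I ⟨2, hI⟩ (Red.bc b G) (Red.bc b H₁) (Red.bc b H₂)
      (inferInstanceAs (Smooth (pullback.snd G.hom b))) (splitLoc_bc (splitFpqc_of_multTypeFT H₁ h₁) b)
      (splitLoc_bc (splitFpqc_of_multTypeFT H₂ h₂) b) k₁ k₂ (bcUn b (a' ≫ j)) (fun X p => by
        have hs := (hiff _ (a' ≫ j)).mp ⟨a', rfl⟩ _ ((Over.map b).map p)
        refine ⟨fun h => ?_, fun h => ?_⟩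
        · obtain ⟨y, hy⟩ := hs.1 (bcTr b h)
          refine ⟨bcUn b y, bcTr_injective b ?_⟩
          rw [bcTr_mul, bcTr_mul, bcTr_inv, bcTr_comp, bcTr_bcUn, bcTr_map, bcTr_map, bcTr_bcUn]
          exact hy
        · obtain ⟨y, hy⟩ := hs.2 (bcTr b h)
          refine ⟨bcUn b y, bcTr_injective b ?_⟩
          rw [bcTr_mul, bcTr_mul, bcTr_inv, bcTr_comp, bcTr_bcUn, bcTr_map, bcTr_map, bcTr_bcUn]
          exact hy)
    have hY : SubTransports i₁ i₂ (bcTr b g) := by
      intro X' x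
      let X₀ : Over (Spec (CommRingCat.of A)) := Over.mk x.left
      let e : (Over.map b).obj X₀ ≅ X' := Over.isoMk (Iso.refl _) (by
        show 𝟙 _ ≫ X'.hom = x.left ≫ b
        rw [Category.id_comp, ← Over.w x]
        show x.left ≫ (𝟙 _ ≫ b) = _
        rw [Category.id_comp])
      have ex : (Over.map b).map (toUnit X₀) = e.hom ≫ x := by
        ext1
        show _ = 𝟙 _ ≫ x.left
        rw [Category.id_comp]
        rfl
      have hgX : ∀ z : X₀ ⟶ Red.bc b H₁,
          (toUnit X₀ ≫ g) * (z ≫ k₁) * (toUnit X₀ ≫ g)⁻¹ = (z ≫ φ.hom) ≫ k₂ := fun z => by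
        have := congrArg (z ≫ ·) hg
        simp only [MonObj.comp_mul, GrpObj.comp_inv, ← Category.assoc, comp_toUnit] at this
        exact this
      refine ⟨fun h => ?_, fun h => ?_⟩
      · refine ⟨e.inv ≫ bcTr b (bcUn b (e.hom ≫ h) ≫ φ.hom), ?_⟩
        have h1 := congrArg (bcTr b) (hgX (bcUn b (e.hom ≫ h)))
        rw [bcTr_mul, bcTr_mul, bcTr_inv, bcTr_comp, bcTr_map, bcTr_map, bcTr_bcUn] at h1
        rw [ex, Category.assoc, Category.assoc, ← GrpObj.comp_inv, ← MonObj.comp_mul, ← MonObj.comp_mul] at h1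
        rw [Category.assoc, ← h1, Iso.inv_hom_id_assoc]
      · refine ⟨e.inv ≫ bcTr b (bcUn b (e.hom ≫ h) ≫ φ.inv), ?_⟩
        have h1 := congrArg (bcTr b) (hgX (bcUn b (e.hom ≫ h) ≫ φ.inv))
        rw [bcTr_mul, bcTr_mul, bcTr_inv, bcTr_comp, bcTr_map, bcTr_map, Category.assoc, Iso.inv_hom_id,
          Category.comp_id, bcTr_bcUn] at h1
        have h3 : ∀ (c z w : (Over.map b).obj X₀ ⟶ G), c * z * c⁻¹ = w → c⁻¹ * w * c = z := by
          rintro c z w rfl; group
        have h2 := h3 _ _ _ h1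
        rw [ex, Category.assoc, Category.assoc, ← GrpObj.comp_inv, ← MonObj.comp_mul, ← MonObj.comp_mul] at h2
        rw [Category.assoc, ← h2, Iso.inv_hom_id_assoc]
    obtain ⟨t, ht⟩ := (hiff _ _).mpr hY
    refine ⟨t.left, ?_, ?_⟩
    · have h1 : (Over.map b).map (toUnit S₀) ≫ t = a' := by
        have : Mono j := Over.mono_of_mono_left j
        rw [← cancel_mono j, Category.assoc, ht, ← bcTr_comp, hg₀, bcTr_bcUn]
      exact congrArg CommaMorphism.left h1
    · exact (Over.w t).trans (Category.id_comp b)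

end Groth.Agent.TorusCentralizer
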